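import Groth.Agent.PicCurve.Chart
import Groth.Agent.CurveRR.Pencil
import Groth.Agent.Intersect.Num
import Groth.Agent.DimField.Cons
import Groth.Agent.LocalDimBC.Smooth
import Groth.Agent.LBDesc.SectionApp
import Groth.Agent.S14845

/-!
Families of curves of genus one with a section: classes of fibre degree zero and sections.
-/

set_option autoImplicit false
set_option backward.isDefEq.respectTransparency false
set_option backward.isDefEq.respectTransparency.types false
set_option linter.style.haveILetI false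
set_option maxHeartbeats 2000000

universe u

open CategoryTheory CategoryTheory.Limits AlgebraicGeometry TopologicalSpace Opposite
open PicF
open Groth.Agent.W7Cube (pull pull_pull pull_cls)

attribute [local instance] Groth.Agent.W7Cube.law

noncomputable section

namespace Groth.Agent.EllSect

/-- The nonempty fibres of a smooth morphism of relative dimension one are curves. -/
theorem dim_fiber_eq_one {E S : Scheme.{u}} (f : E ⟶ S) [SmoothOfRelativeDimension 1 f] (σ : S ⟶ E)
    (hσ : σ ≫ f = 𝟙 S) (s : S) : topologicalKrullDim ↥(f.fiber s) = 1 := by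
  haveI : Smooth f := SmoothOfRelativeDimension.smooth 1 f
  have hd := LocalDimBC.fibreDimAt_of_smoothOfRelativeDimension 1 f
  have h1 : ((1 : ℕ) : WithBot ℕ∞) ≤ topologicalKrullDim ↥(f.fiber s) :=
    (DimField.dim_fiber_le_iff f s).2 ⟨σ s, (hd _).ge, by rw [← Scheme.Hom.comp_apply, hσ]; rfl⟩
  have h2 : ¬ ((2 : ℕ) : WithBot ℕ∞) ≤ topologicalKrullDim ↥(f.fiber s) := fun h => by
    obtain ⟨x, hx, -⟩ := (DimField.dim_fiber_le_iff f s).1 h
    rw [Set.mem_setOf_eq, hd] at hx
    have : (2 : ℕ) ≤ 1 := by exact_mod_cast hx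
    omega
  refine le_antisymm ?_ (by exact_mod_cast h1)
  generalize topologicalKrullDim ↥(f.fiber s) = d at h2
  induction d using WithBot.recBotCoe with
  | bot => exact bot_le
  | coe a =>
    induction a using ENat.recTopCoe with
    | top => exact absurd (WithBot.coe_le_coe.2 le_top) h2
    | coe n =>
      have : n ≤ 1 := by
        by_contra hn
        exact h2 (WithBot.coe_le_coe.2 (Nat.cast_le.2 (show 2 ≤ n by omega)))
      exact_mod_cast this

/-- On a curve of genus one over an algebraically closed field, an invertible module of Euler characteristic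
zero twisted up by a point has one section and no `H¹`. -/
theorem good_twist {Ω : Type u} [Field Ω] [IsAlgClosed Ω] {X : Scheme.{u}} [X.Over (Spec (CommRingCat.of Ω))]
    [IsProper (X ↘ Spec (CommRingCat.of Ω))] [IsIntegral X] (hdim : topologicalKrullDim X = 1)
    (hO0 : CurveRR.h Ω (Coh.structureModule X) 0 = 1) (hO1 : CurveRR.h Ω (Coh.structureModule X) 1 = 1)
    {L : X.Modules} (hL : PicF.IsInvertible L) (hL0 : CurveRR.h Ω L 0 = CurveRR.h Ω L 1)
    (J : X.IdealSheafData) (hJ : BlowUp.IsEffCartierIdeal J)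
    [IsFinite (J.subschemeι ≫ (X ↘ Spec (CommRingCat.of Ω)))] [Flat (J.subschemeι ≫ (X ↘ Spec (CommRingCat.of Ω)))]
    (hJ1 : ∀ y, (J.subschemeι ≫ (X ↘ Spec (CommRingCat.of Ω))).finrank y = 1)
    {M : X.Modules} (hM : PicF.IsInvertible M) (hMc : PicGrp.cls M hM = PicGrp.cls L hL * PicCurve.divCl J hJ) :
    CurveRR.h Ω M 0 = 1 ∧ CurveRR.h Ω M 1 = 0 := by
  haveI := CurveRR.isNoetherian_of_proper Ω X
  obtain ⟨D, hD, hDc⟩ := PicGrp.exists_eq_cls (PicCurve.divCl J hJ)
  have hinv := PicCurve.isInverseOf_of_cls_eq hD hJ hDc.symm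
  rw [hDc] at hMc
  obtain ⟨i⟩ : Nonempty (M ≅ CohB1.tensorMod L D) :=
    (PicGrp.cls_eq_cls_iff hM (TMul.isInvertible_tensorMod hL hD)).1 hMc
  have hd := CurveRR.deg_tensor_cartier (k := Ω) hdim.le hJ hD hinv (CurveRR.isFinLocFreeOfRank_one hL)
  have hq : CurveRR.h Ω (ClSub.quotMod J) 0 = 1 := by
    rw [DualGeneric.Sub.h0_quotMod_eq Ω J, ← hJ1 (IsLocalRing.closedPoint Ω), PicCurve.finrank_eq_dim]
  rw [hq, Curv2.deg, Curv2.deg, ← CurveRR.euler_eq_of_iso i, CurveRR.euler_eq hdim.le M, CurveRR.euler_eq hdim.le L,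
    CurveRR.euler_eq hdim.le (Coh.structureModule X), hO0, hO1] at hd
  push_cast at hd
  have hle : CurveRR.h Ω M 0 ≤ 1 := by
    by_contra h
    have h2 := CurveRR.two_le_deg (k := Ω) hdim.le (L := M) (le_of_eq hO1.symm) hM (by omega)
    rw [Curv2.deg, CurveRR.euler_eq hdim.le M, CurveRR.euler_eq hdim.le (Coh.structureModule X), hO0, hO1] at h2
    push_cast at h2
    omega
  omega

variable {E S : Scheme.{u}} (f : E ⟶ S) [IsProper f] [SmoothOfRelativeDimension 1 f] [GeometricallyConnected f]

/-- The ideal of a section. -/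
theorem effCartier_ker (P : S ⟶ E) (hP : P ≫ f = 𝟙 S) : BlowUp.IsEffCartierIdeal P.ker := by
  haveI : IsClosedImmersion P := by
    haveI : IsClosedImmersion (P ≫ f) := by rw [hP]; infer_instance
    exact IsClosedImmersion.of_comp P f
  have hiso : IsIso (P.ker.subschemeι ≫ f) := by
    rw [← IsIso.inv_hom_id_assoc P.toImage (P.ker.subschemeι ≫ f), ← Category.assoc P.toImage,
      show P.toImage ≫ P.ker.subschemeι = P from P.toImage_imageι, hP]
    infer_instance
  exact ((Groth.Agent.S1184.result f P.ker).2 ⟨inferInstance, inferInstance, inferInstance⟩).1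

/-- The total space as the pullback to the base. -/
def j : E ⟶ XT f (Over.mk (𝟙 S)) := pullback.lift (𝟙 E) f (by rw [Category.id_comp]; exact (Category.comp_id f).symm)

omit [IsProper f] [SmoothOfRelativeDimension 1 f] [GeometricallyConnected f] in
theorem j_fst : j f ≫ pullback.fst f (Over.mk (𝟙 S)).hom = 𝟙 E := pullback.lift_fst _ _ _

omit [IsProper f] [SmoothOfRelativeDimension 1 f] [GeometricallyConnected f] in
theorem j_proj : j f ≫ XTproj f (Over.mk (𝟙 S)) = f := pullback.lift_snd _ _ _

omit [IsProper f] [SmoothOfRelativeDimension 1 f] [GeometricallyConnected f] in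
theorem fst_j : pullback.fst f (Over.mk (𝟙 S)).hom ≫ j f = 𝟙 _ := by
  refine pullback.hom_ext ?_ ?_
  · rw [Category.assoc, j_fst, Category.comp_id, Category.id_comp]
  · rw [Category.assoc, show j f ≫ pullback.snd f (Over.mk (𝟙 S)).hom = f from j_proj f, Category.id_comp,
      pullback.condition]
    exact Category.comp_id _

instance : IsIso (j f) := ⟨⟨pullback.fst f (Over.mk (𝟙 S)).hom, j_fst f, fst_j f⟩⟩

variable (Δ : HilbD.Obj f 1 (Over.mk f))
  (hΔ : Δ.1 = HilbD.secGraph f (Over.mk f) (𝟙 E) (Category.id_comp f))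

include hΔ in
/-- The class of a point of the curve is the class of the divisor of the section. -/
theorem pull_j_cH (x : Over.mk (𝟙 S) ⟶ Over.mk f) :
    pull (j f) (pull (XTmap f x) (PicCurve.cH f 1 (Over.mk f) Δ)) =
      PicCurve.divCl x.left.ker (effCartier_ker f x.left (Over.w x)) := by
  have hx : x.left ≫ f = (Over.mk (𝟙 S)).hom := Over.w x
  let s := HilbOne.sect f (Over.mk (𝟙 S)) x.left hx
  have h1 : HilbD.pull f x Δ.1 = s.ker := by
    rw [hΔ, HilbOne.pull_secGraph, HilbOne.secGraph_eq]
    congr 1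
  have h2 : s.ker.comap (j f) = x.left.ker := by
    have sq : IsPullback (𝟙 S) x.left s (j f) := IsPullback.of_horiz_isIso ⟨?_⟩
    · exact (AlmostBlow.ker_of_isPullback sq).symm
    refine pullback.hom_ext ?_ ?_
    · rw [Category.assoc, Category.assoc, j_fst, Category.comp_id, Category.id_comp]
      exact HilbOne.sect_fst f _ _ _
    · rw [Category.assoc, Category.assoc, show j f ≫ pullback.snd f (Over.mk (𝟙 S)).hom = f from j_proj f,
        HilbOne.sect_snd, Category.id_comp]
      exact hx.symm
  rw [PicCurve.pull_cH, PicCurve.divCl_congr h1 _ (h1 ▸ PicCurve.effCartier_obj f _ ⟨_, HilbOne.mem_pull f 1 x _ Δ.2⟩),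
    PicCurve.pull_divCl _ _ (h2 ▸ effCartier_ker f x.left (Over.w x))]
  exact PicCurve.divCl_congr h2 _ _

end Groth.Agent.EllSect
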