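import Groth.Agent.EllSect.Main
import Groth.Agent.PicCurve.AbelSum

/-!
The group law of a genus one family with a section, through classes of fibre degree zero.
-/

set_option autoImplicit false
set_option backward.isDefEq.respectTransparency false
set_option backward.isDefEq.respectTransparency.types false
set_option linter.style.haveILetI false
set_option linter.unusedSectionVars false
set_option maxHeartbeats 1600000

universe u

open CategoryTheory CategoryTheory.Limits AlgebraicGeometry TopologicalSpace Opposite MonoidalCategory CartesianMonoidalCategory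
open PicF
open scoped MonObj
open Groth.Agent.W7Cube (pull pull_pull pull_cls)
open Groth.Agent.PicCurve

attribute [local instance] Groth.Agent.W7Cube.law

noncomputable section

namespace Groth.Agent.EllSect

variable {E S : Scheme.{u}} (f : E ⟶ S) [IsProper f] [SmoothOfRelativeDimension 1 f] [GeometricallyConnected f]
  (hdim : ∀ s : S, topologicalKrullDim ↥(f.fiber s) = 1)
  (hO : ∀ z : S, PerfAux.betti f (Coh.structureModule E) z 0 = 1 ∧ PerfAux.betti f (Coh.structureModule E) z 1 = 1)

include hdim hO in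
/-- On a genus one family, a class of fibre degree one has one section and no `H¹`. -/
theorem goodC_of_degC_eq_one (T : Over S) (c : PicLoc.PicSet (XT f T)) (t : T.left) (h : degC f T c t = 1) :
    GoodC f T c t := by
  obtain ⟨Ω, _, _, ω, m, y, hy, hdeg⟩ := exists_degC_eq f T t
  rw [← hy, ← goodC_pull f m]
  letI := ptStr f ω
  haveI : IsProper (XT f (ptOver ω) ↘ Spec (CommRingCat.of Ω)) := isProper_proj f _
  obtain ⟨hX, hi⟩ := curve_pt f hdim ω
  haveI := hi
  haveI := CurveRR.isNoetherian_of_proper Ω (XT f (ptOver ω))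
  obtain ⟨M, hM, hMc⟩ := PicGrp.exists_eq_cls (pull (XTmap f m) c)
  have h1 : degP Ω (pull (XTmap f m) c) = 1 := (hdeg c).symm.trans h
  rw [hMc, degP_cls Ω hM, Curv2.deg, CurveRR.euler_eq hX.le M,
    CurveRR.euler_eq hX.le (Coh.structureModule (XT f (ptOver ω)))] at h1
  have hb : ∀ (F : (XT f (ptOver ω)).Modules), Coh.IsQCoh F → ∀ i,
      PerfAux.betti (XTproj f (ptOver ω)) F y i = CurveRR.h Ω F i := fun F hF i => AbelMap.betti_field hF y i
  obtain ⟨hO0, hO1⟩ := betti_proj f 1 hO (ptOver ω) y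
  rw [hb _ (QC.isQCoh_unit _)] at hO0 hO1
  rw [hO0, hO1] at h1
  push_cast at h1
  have hle : CurveRR.h Ω M 0 ≤ 1 := by
    by_contra h0
    have h2 := CurveRR.two_le_deg (k := Ω) hX.le (L := M) (le_of_eq hO1.symm) hM (by omega)
    rw [Curv2.deg, CurveRR.euler_eq hX.le M, CurveRR.euler_eq hX.le (Coh.structureModule (XT f (ptOver ω))), hO0, hO1]
      at h2
    push_cast at h2
    omega
  rw [hMc, goodC_cls]
  exact ⟨(hb M (TMul.isQCoh_of_isInvertible hM) 0).trans (by omega),
    (hb M (TMul.isQCoh_of_isInvertible hM) 1).trans (by omega)⟩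

variable (σ : S ⟶ E) (hσ : σ ≫ f = 𝟙 S)

include hdim in
theorem degC_ptCl (T : Over S) (x : T.left ⟶ E) (hx : x ≫ f = T.hom) (t : T.left) :
    degC f T (ptCl f T x hx) t = 1 :=
  degC_divCl f hdim (d := 1) T ⟨HilbD.secGraph f T x hx, HilbOne.secGraph_mem f T x hx⟩ t

/-- The class of the base point. -/
def sigCl (T : Over S) : PicLoc.PicSet (XT f T) :=
  ptCl f T (T.hom ≫ σ) (by rw [Category.assoc, hσ, Category.comp_id])

theorem pull_sigCl {T T' : Over S} (m : T' ⟶ T) : pull (XTmap f m) (sigCl f σ hσ T) = sigCl f σ hσ T' := by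
  rw [sigCl, pull_ptCl]
  exact ptCl_congr f T' (by rw [← Category.assoc, Over.w m]) _ _

/-- The universal class of fibre degree zero. -/
def uCl : PicLoc.PicSet (XT f (Over.mk f)) :=
  rigify f σ hσ _ (ptCl f (Over.mk f) (𝟙 E) (Category.id_comp f) * (sigCl f σ hσ _)⁻¹)

theorem pull_uCl {T : Over S} (x : T ⟶ Over.mk f) :
    pull (XTmap f x) (uCl f σ hσ) =
      rigify f σ hσ T (ptCl f T x.left (Over.w x) * (sigCl f σ hσ T)⁻¹) := by
  rw [uCl, pull_rigify, map_mul, map_inv, pull_sigCl, pull_ptCl]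
  rw [ptCl_congr f T (show x.left ≫ 𝟙 E = x.left from Category.comp_id _) _ (Over.w x)]

include hdim in
theorem degC_uCl (t : (Over.mk f).left) : degC f (Over.mk f) (uCl f σ hσ) t = 0 := by
  rw [uCl, degC_rigify f hdim, degC_mul f hdim, degC_inv f hdim, sigCl, degC_ptCl f hdim, degC_ptCl f hdim]
  exact add_neg_cancel 1

include hdim hO in
/-- The family classifies the rigidified classes of fibre degree zero. -/
theorem classifies_uCl : Classifies f σ hσ (fun T c => ∀ t, degC f T c t = 0) (Over.mk f) (uCl f σ hσ) := by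
  intro T c hc hc0
  haveI : Smooth f := SmoothOfRelativeDimension.smooth 1 f
  obtain ⟨Δ, hΔ, hΔu⟩ := Groth.Agent.S14845.result f
  have ha := LBDesc.isIso_XTproj_app f σ hσ
  have hgood : ∀ t, GoodC f T (rigify f σ hσ T (c * sigCl f σ hσ T)) t := fun t =>
    (goodC_rigify f σ hσ T _ t).2 (goodC_of_degC_eq_one f hdim hO T _ t (by
      rw [degC_mul f hdim, hc0, sigCl, degC_ptCl f hdim, zero_add]))
  have hcH : ∀ x : T ⟶ Over.mk f, pull (XTmap f x) (cH f 1 (Over.mk f) Δ) = ptCl f T x.left (Over.w x) := fun x => by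
    rw [pull_cH]
    refine divCl_congr ?_ _ _
    rw [hΔ, HilbOne.pull_secGraph]
    congr 1
  have key : ∀ x : T ⟶ Over.mk f, pull (XTmap f x) (uCl f σ hσ) = c ↔
      rigify f σ hσ T (pull (XTmap f x) (cH f 1 (Over.mk f) Δ)) = rigify f σ hσ T (c * sigCl f σ hσ T) := fun x => by
    rw [pull_uCl, hcH]
    conv_lhs => rhs; rw [← rigify_of_mem f σ hσ hc]
    conv_rhs => lhs; rw [show ptCl f T x.left (Over.w x) = ptCl f T x.left (Over.w x) * (sigCl f σ hσ T)⁻¹ * sigCl f σ hσ T from
      (inv_mul_cancel_right _ _).symm, rigify_mul]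
    rw [rigify_mul f σ hσ T c, mul_left_inj]
  obtain ⟨x, hx, hxu⟩ := existsUnique_hom f σ hσ ha 1 hdim hO (Over.mk f) Δ hΔu T _ (rigify_mem f σ hσ T _) hgood
  exact ⟨x, (key x).2 hx, fun y hy => hxu y ((key y).1 hy)⟩

include hdim hO in
/-- The group law on the family. -/
theorem exists_grpObj : ∃ G : GrpObj (Over.mk f), ∀ (T : Over S) (p q : T ⟶ Over.mk f),
    pull (XTmap f (lift p q ≫ G.mul)) (uCl f σ hσ) = pull (XTmap f p) (uCl f σ hσ) * pull (XTmap f q) (uCl f σ hσ) := by
  have hu : pull (secT f σ hσ (Over.mk f)) (uCl f σ hσ) = 1 := rigify_mem f σ hσ _ _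
  have hu0 : ∀ t, degC f (Over.mk f) (uCl f σ hσ) t = 0 := fun t => by
    rw [uCl, degC_rigify f hdim, degC_mul f hdim, degC_inv f hdim, sigCl, degC_ptCl f hdim, degC_ptCl f hdim]
    exact add_neg_cancel 1
  have hJ := classifies_uCl f hdim hO σ hσ
  let Sub : ∀ T : Over S, Subgroup (PicLoc.PicSet (XT f T)) := fun T =>
    { carrier := {c | pull (secT f σ hσ T) c = 1 ∧ ∀ t, degC f T c t = 0}
      mul_mem' := fun {a b} ha hb => ⟨by rw [map_mul, ha.1, hb.1, one_mul],
        fun t => by rw [degC_mul f hdim, ha.2 t, hb.2 t, add_zero]⟩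
      one_mem' := ⟨map_one _, degC_one f hdim T⟩
      inv_mem' := fun {a} ha => ⟨by rw [map_inv, ha.1, inv_one], fun t => by rw [degC_inv f hdim, ha.2 t, neg_zero]⟩ }
  have hmem : ∀ (T : Over S) (g : T ⟶ Over.mk f), ∀ t, degC f T (pull (XTmap f g) (uCl f σ hσ)) t = 0 :=
    fun T g t => by rw [degC_pull]; exact hu0 _
  let e : ∀ T : Over S, (T ⟶ Over.mk f) ≃ Sub T := fun T =>
    { toFun := fun g => ⟨pull (XTmap f g) (uCl f σ hσ), pull_secT g hu, hmem T g⟩
      invFun := fun c => (hJ T c.1 c.2.1 c.2.2).exists.choose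
      left_inv := fun g => (hJ T _ (pull_secT g hu) (hmem T g)).unique
        (hJ T _ (pull_secT g hu) (hmem T g)).exists.choose_spec rfl
      right_inv := fun c => Subtype.ext (hJ T c.1 c.2.1 c.2.2).exists.choose_spec }
  have hnat : ∀ {T T' : Over S} (h : T' ⟶ T) (g : T ⟶ Over.mk f),
      pull (XTmap f h) (e T g).1 = (e T' (h ≫ g)).1 := fun {T T'} h g => by
    show pull _ (pull _ (uCl f σ hσ)) = pull _ (uCl f σ hσ)
    rw [pull_pull, S12404.XTmap_comp]
  let G : ∀ T : Over S, Group (T ⟶ Over.mk f) := fun T => (e T).group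
  let F : (Over S)ᵒᵖ ⥤ GrpCat.{u} :=
    { obj := fun T => @GrpCat.of (T.unop ⟶ Over.mk f) (G T.unop)
      map := fun {T T'} h =>
        letI := G T.unop
        letI := G T'.unop
        GrpCat.ofHom (MonoidHom.mk' (fun g => h.unop ≫ g) fun a b => (e T'.unop).injective (by
          have hmul : ∀ (U : Over S) (p q : U ⟶ Over.mk f),
              letI := G U; e U (p * q) = e U p * e U q := fun U p q => (e U).apply_symm_apply _
          rw [hmul]
          refine Subtype.ext ?_
          show (e T'.unop (h.unop ≫ (a * b))).1 = (e T'.unop (h.unop ≫ a)).1 * (e T'.unop (h.unop ≫ b)).1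
          rw [← hnat, ← hnat, ← hnat]
          exact (congrArg (fun c : Sub T.unop => pull (XTmap f h.unop) c.1) (hmul T.unop a b)).trans
            (map_mul _ _ _)))
      map_id := fun T => by
        letI := G T.unop
        exact GrpCat.hom_ext (MonoidHom.ext fun g => Category.id_comp g)
      map_comp := fun {T T' T''} a b => by
        letI := G T.unop
        exact GrpCat.hom_ext (MonoidHom.ext fun g => Category.assoc b.unop a.unop g) }
  refine ⟨GrpObj.ofRepresentableBy (Over.mk f) F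
    { homEquiv := fun {T} => Equiv.refl _
      homEquiv_comp := fun {T T'} h g => rfl }, fun T p q => ?_⟩
  show (e T (lift p q ≫ (e (Over.mk f ⊗ Over.mk f)).symm
    (e (Over.mk f ⊗ Over.mk f) (fst (Over.mk f) (Over.mk f)) * e (Over.mk f ⊗ Over.mk f) (snd (Over.mk f) (Over.mk f))))).1 =
    (e T p).1 * (e T q).1
  rw [← hnat, Equiv.apply_symm_apply, Subgroup.coe_mul, map_mul, hnat, hnat, lift_fst, lift_snd]

include hdim hO in
/-- The characterisation of the product by divisors. -/
theorem rel_iff (G : GrpObj (Over.mk f)) (hG : ∀ (T : Over S) (p q : T ⟶ Over.mk f),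
      pull (XTmap f (lift p q ≫ G.mul)) (uCl f σ hσ) = pull (XTmap f p) (uCl f σ hσ) * pull (XTmap f q) (uCl f σ hσ))
    (T : Over S) (P Q R : T ⟶ Over.mk f) :
    lift P Q ≫ G.mul = R ↔ rigify f σ hσ T (ptCl f T P.left (Over.w P) * ptCl f T Q.left (Over.w Q)) =
      rigify f σ hσ T (ptCl f T R.left (Over.w R) * sigCl f σ hσ T) := by
  have hinj : ∀ a b : T ⟶ Over.mk f, pull (XTmap f a) (uCl f σ hσ) = pull (XTmap f b) (uCl f σ hσ) → a = b :=
    fun a b h => by
      obtain ⟨x, -, hx⟩ := classifies_uCl f hdim hO σ hσ T _ (pull_secT b (rigify_mem f σ hσ _ _))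
        (fun t => (degC_pull f b (uCl f σ hσ) t).trans (degC_uCl f hdim σ hσ _))
      exact (hx a h).trans (hx b rfl).symm
  have e : ∀ x : T ⟶ Over.mk f, pull (XTmap f x) (uCl f σ hσ) =
      rigify f σ hσ T (ptCl f T x.left (Over.w x)) * (rigify f σ hσ T (sigCl f σ hσ T))⁻¹ := fun x => by
    rw [pull_uCl, eq_mul_inv_iff_mul_eq, ← rigify_mul, inv_mul_cancel_right]
  rw [← (show pull (XTmap f (lift P Q ≫ G.mul)) (uCl f σ hσ) = pull (XTmap f R) (uCl f σ hσ) ↔ _ from
    ⟨hinj _ _, fun h => h ▸ rfl⟩), hG, e, e, e, rigify_mul, rigify_mul]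
  constructor
  · intro h
    have := congrArg (fun a => a * (rigify f σ hσ T (sigCl f σ hσ T) * rigify f σ hσ T (sigCl f σ hσ T))) h
    simpa [mul_assoc, mul_left_comm, mul_comm] using this
  · intro h
    rw [← mul_inv_eq_iff_eq_mul] at h
    rw [← h]
    apply Additive.ofMul.injective; simp only [ofMul_mul, ofMul_inv]; abel

end Groth.Agent.EllSect
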