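import Groth.Agent.EllSect.Basic
import Groth.Agent.PicCurve.Field
import Groth.Agent.PicSmooth.Degree

/-!
Sections of a genus one family classify the classes of fibre degree zero modulo the base.
-/

set_option autoImplicit false
set_option backward.isDefEq.respectTransparency false
set_option backward.isDefEq.respectTransparency.types false
set_option linter.style.haveILetI false
set_option linter.unusedSectionVars false
set_option maxHeartbeats 2000000

universe u

open CategoryTheory CategoryTheory.Limits AlgebraicGeometry TopologicalSpace Opposite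
open PicF
open Groth.Agent.W7Cube (pull pull_pull pull_cls)

attribute [local instance] Groth.Agent.W7Cube.law

noncomputable section

namespace Groth.Agent.EllSect

theorem inv_eq_mul_iff {G : Type*} [CommGroup G] (a b c d : G) : b⁻¹ = a * c⁻¹ * d⁻¹ ↔ a * b = c * d := by
  rw [mul_assoc, ← mul_inv, eq_mul_inv_iff_mul_eq, inv_mul_eq_iff_eq_mul, mul_comm a b]
  exact eq_comm

variable {E S : Scheme.{u}} (f : E ⟶ S)

/-- The Euler characteristic of a fibre through Betti numbers. -/
theorem euler_fiber (F : E.Modules) (s : S) :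
    @FGA.eulerCharLE (S.residueField s) _ (f.fiber s) (f.fiberOverSpecResidueField s)
      ((Scheme.Modules.pullback (f.fiberι s)).obj F) 1 =
      (PerfAux.betti f F s 0 : ℤ) - PerfAux.betti f F s 1 := by
  unfold FGA.eulerCharLE
  rw [Finset.sum_range_succ, Finset.sum_range_one, pow_zero, one_mul, pow_one, neg_one_mul, ← sub_eq_add_neg]
  rfl

theorem eulerCharLE_iso (s : S) {F G : (f.fiber s).Modules} (e : F ≅ G) :
    @FGA.eulerCharLE (S.residueField s) _ (f.fiber s) (f.fiberOverSpecResidueField s) F 1 =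
      @FGA.eulerCharLE (S.residueField s) _ (f.fiber s) (f.fiberOverSpecResidueField s) G 1 := by
  letI : (f.fiber s).Over (Spec (CommRingCat.of ↥(S.residueField s))) := ⟨f.fiberToSpecResidueField s⟩
  refine Finset.sum_congr rfl fun i _ => ?_
  exact congrArg (fun n : ℕ => (-1 : ℤ) ^ i * (n : ℤ)) (CurveRR.h_eq_of_iso (k := ↥(S.residueField s)) e i)

variable [IsProper f] [SmoothOfRelativeDimension 1 f] [GeometricallyConnected f] (σ : S ⟶ E) (hσ : σ ≫ f = 𝟙 S)

include hσ in
/-- Fibres of a family of curves with a section have only constant functions. -/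
theorem betti_zero (s : S) : PerfAux.betti f (Coh.structureModule E) s 0 = 1 := by
  have hdim := dim_fiber_eq_one f σ hσ
  haveI := PicCurve.isIntegral_fiber f hdim s
  let p := f.fiberToSpecResidueField s
  haveI hp : IsProper p := MorphismProperty.pullback_snd _ _ ‹IsProper f›
  haveI : Smooth f := SmoothOfRelativeDimension.smooth 1 f
  haveI hs : Smooth p := MorphismProperty.pullback_snd _ _ ‹Smooth f›
  letI : (f.fiber s).Over (Spec (CommRingCat.of ↥(S.residueField s))) := ⟨p⟩
  haveI : IsProper (f.fiber s ↘ Spec (CommRingCat.of ↥(S.residueField s))) := hp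
  let τ : Spec (CommRingCat.of ↥(S.residueField s)) ⟶ f.fiber s :=
    pullback.lift (S.fromSpecResidueField s ≫ σ) (𝟙 _) (by rw [Category.assoc, hσ, Category.comp_id, Category.id_comp])
  have hτ : τ ≫ p = 𝟙 _ := pullback.lift_snd _ _ _
  let y := IsLocalRing.closedPoint ↥(S.residueField s)
  have h := (PicCurve.betti_structure_curve p ⟨hp, hs, inferInstance, hdim s⟩ τ hτ y).1
  have hq := AbelMap.betti_field (k := ↥(S.residueField s)) (QC.isQCoh_unit (f.fiber s)) y 0
  refine (CurveRR.h_eq_of_iso (k := ↥(S.residueField s)) (PicLoc.pullbackStructureIso (f.fiberι s)) 0).trans ?_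
  exact hq.symm.trans h

variable (hdim : ∀ s : S, topologicalKrullDim ↥(f.fiber s) = 1)
  (ha : ∀ (T : Over S) (U : T.left.Opens), IsIso ((PicF.XTproj f T).app U))
  (hO : ∀ z : S, PerfAux.betti f (Coh.structureModule E) z 0 = 1 ∧ PerfAux.betti f (Coh.structureModule E) z 1 = 1)
  (L : E.Modules) (hL : PicF.IsInvertible L) (hL' : ∀ z : S, PerfAux.betti f L z 0 = PerfAux.betti f L z 1)

/-- The class twisted up by the section, on the pullback to the base. -/
def cσ : PicLoc.PicSet (XT f (Over.mk (𝟙 S))) :=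
  pull (pullback.fst f (Over.mk (𝟙 S)).hom) (PicGrp.cls L hL * PicCurve.divCl σ.ker (effCartier_ker f σ hσ))

theorem pull_j_cσ : pull (j f) (cσ f σ hσ L hL) =
    PicGrp.cls L hL * PicCurve.divCl σ.ker (effCartier_ker f σ hσ) := by
  rw [cσ, pull_pull, j_fst, PicCurve.pull_id]

include hdim hO hL' in
/-- The twisted class has one section and no `H¹` on every fibre. -/
theorem goodC_cσ (t : S) : PicCurve.GoodC f (Over.mk (𝟙 S)) (cσ f σ hσ L hL) t := by
  obtain ⟨Ω, _, _, τ, y, hy⟩ := AbelMap.exists_geomPt S t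
  let T := Over.mk (𝟙 S)
  let T' := AbDual.ovr T τ
  let m : T' ⟶ T := AbDual.ovrHom T τ
  rw [← show m.left y = t from hy, ← PicCurve.goodC_pull f m]
  let X := XT f T'
  let p := XTproj f T'
  letI : X.Over (Spec (CommRingCat.of Ω)) := ⟨p⟩
  haveI : IsProper (X ↘ Spec (CommRingCat.of Ω)) := PicCurve.isProper_proj f T'
  haveI : IsIso (p.fiberι y) := by
    haveI : IsIso ((Spec (CommRingCat.of Ω)).fromSpecResidueField y) := AssTensor.isIso_fromSpecResidueField _ y
    exact inferInstanceAs (IsIso (pullback.fst _ ((Spec (CommRingCat.of Ω)).fromSpecResidueField y)))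
  haveI : Smooth f := SmoothOfRelativeDimension.smooth 1 f
  haveI : Smooth (X ↘ Spec (CommRingCat.of Ω)) :=
    (MorphismProperty.pullback_snd _ _ ‹Smooth f› : Smooth (pullback.snd f T'.hom))
  haveI : GeometricallyConnected (X ↘ Spec (CommRingCat.of Ω)) := PicCurve.geomConn_proj f T'
  have hXdim : topologicalKrullDim X = 1 := by
    rw [← IsHomeomorph.topologicalKrullDim_eq _
      (Homeomorph.isHomeomorph (Scheme.homeoOfIso (asIso (p.fiberι y))))]
    exact PicCurve.dim_proj f hdim T' y
  haveI : IsIntegral X := W7Slope.isIntegral_of_geomConn Ω hXdim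
  have hb : ∀ (F : E.Modules), Coh.IsQCoh F → ∀ i,
      CurveRR.h Ω ((Scheme.Modules.pullback (pullback.fst f T'.hom)).obj F) i = PerfAux.betti f F (T'.hom y) i :=
    fun F hF i => ((AbelMap.betti_field (QC.isQCoh_pullback _ hF) y i).symm.trans
      (PicSmooth.betti_of_isPullback (IsPullback.of_hasPullback f T'.hom) F hF y i))
  have hO' : ∀ i, CurveRR.h Ω (Coh.structureModule X) i = PerfAux.betti f (Coh.structureModule E) (T'.hom y) i :=
    fun i => (CurveRR.h_eq_of_iso (PicLoc.pullbackStructureIso (pullback.fst f T'.hom)).symm i).trans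
      (hb _ (QC.isQCoh_unit E) i)
  let s₁ : T'.left ⟶ X := HilbOne.sect f T' (T'.hom ≫ σ) (by rw [Category.assoc, hσ, Category.comp_id])
  have hs : s₁.ker = σ.ker.comap (pullback.fst f T'.hom) := by
    have hw : T'.hom ≫ σ = s₁ ≫ pullback.fst f T'.hom := (HilbOne.sect_fst f T' _ _).symm
    haveI : IsClosedImmersion σ := by
      haveI : IsClosedImmersion (σ ≫ f) := by rw [hσ]; infer_instance
      exact IsClosedImmersion.of_comp σ f
    refine AlmostBlow.ker_of_isPullback (IsPullback.of_bot ?_ hw (IsPullback.of_hasPullback f T'.hom))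
    rw [show s₁ ≫ pullback.snd f T'.hom = 𝟙 _ from HilbOne.sect_snd f T' _ _, hσ]
    exact IsPullback.of_id_snd
  obtain ⟨⟨hfin, hflat, hlfp⟩, hdeg⟩ := HilbOne.secGraph_mem f T' (T'.hom ≫ σ) (by rw [Category.assoc, hσ, Category.comp_id])
  haveI : IsFinite (s₁.ker.subschemeι ≫ (X ↘ Spec (CommRingCat.of Ω))) := hfin
  haveI : Flat (s₁.ker.subschemeι ≫ (X ↘ Spec (CommRingCat.of Ω))) := hflat
  have hJ : BlowUp.IsEffCartierIdeal s₁.ker := PicCurve.effCartier_obj f T' (d := 1) ⟨_, ⟨⟨hfin, hflat, hlfp⟩, hdeg⟩⟩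
  obtain ⟨M, hM, hMc⟩ := PicGrp.exists_eq_cls (pull (XTmap f m) (cσ f σ hσ L hL))
  have hMc' : PicGrp.cls M hM = PicGrp.cls _ (PicLoc.isInvertible_pullback (pullback.fst f T'.hom) hL) *
      PicCurve.divCl s₁.ker hJ := by
    rw [← hMc, cσ, pull_pull, show XTmap f m ≫ pullback.fst f T.hom = pullback.fst f T'.hom from AbelMap.XTmap_fst f m,
      map_mul, pull_cls, PicCurve.pull_divCl _ _ (hs ▸ hJ), PicCurve.divCl_congr hs.symm _ hJ]
  obtain ⟨h0, h1⟩ := good_twist hXdim ((hO' 0).trans (hO _).1) ((hO' 1).trans (hO _).2) (PicLoc.isInvertible_pullback _ hL)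
    (by rw [hb L (TMul.isQCoh_of_isInvertible hL), hb L (TMul.isQCoh_of_isInvertible hL)]; exact hL' _)
    s₁.ker hJ hdeg hM hMc'
  rw [hMc, PicCurve.goodC_cls]
  exact ⟨(AbelMap.betti_field (TMul.isQCoh_of_isInvertible hM) y 0).trans h0,
    (AbelMap.betti_field (TMul.isQCoh_of_isInvertible hM) y 1).trans h1⟩

include hσ hdim ha hO hL hL' in
/-- Classes of fibre degree zero are the classes of sections. -/
theorem existsUnique_section : ∃! P : S ⟶ E, P ≫ f = 𝟙 S ∧ ∃ M : S.Modules, PicF.IsInvertible M ∧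
    Nonempty (CohB1.tensorMod L (ClSub.idealMod P.ker) ≅
      CohB1.tensorMod (ClSub.idealMod σ.ker) ((Scheme.Modules.pullback f).obj M)) := by
  obtain ⟨Δ, hΔ, hΔu⟩ := Groth.Agent.S14845.result f
  let T := Over.mk (𝟙 S)
  have hmem : pull (secT f σ hσ T) (PicCurve.rigify f σ hσ T (cσ f σ hσ L hL)) = 1 := PicCurve.rigify_mem f σ hσ T _
  obtain ⟨x, hx, hxu⟩ := PicCurve.existsUnique_hom f σ hσ ha 1 hdim hO (Over.mk f) Δ hΔu T _ hmem fun t =>
    (PicCurve.goodC_rigify f σ hσ T _ t).2 (goodC_cσ f σ hσ hdim hO L hL hL' t)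
  have key : ∀ x : T ⟶ Over.mk f,
      PicCurve.rigify f σ hσ T (pull (XTmap f x) (PicCurve.cH f 1 (Over.mk f) Δ)) =
          PicCurve.rigify f σ hσ T (cσ f σ hσ L hL) ↔
        ∃ M : S.Modules, PicF.IsInvertible M ∧ Nonempty (CohB1.tensorMod L (ClSub.idealMod x.left.ker) ≅
          CohB1.tensorMod (ClSub.idealMod σ.ker) ((Scheme.Modules.pullback f).obj M)) := by
    intro x
    let hI := (Groth.Agent.S8914.result _).mpr (effCartier_ker f x.left (Over.w x))
    let hJ := (Groth.Agent.S8914.result _).mpr (effCartier_ker f σ hσ)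
    constructor
    · intro h
      obtain ⟨n, hn⟩ := PicCurve.eq_mul_base_of_rigify_eq f σ hσ h
      obtain ⟨M, hM, hMc⟩ := PicGrp.exists_eq_cls n⁻¹
      refine ⟨M, hM, ?_⟩
      have h1 := congrArg (pull (j f)) hn
      rw [pull_j_cH f Δ hΔ, map_mul, pull_j_cσ, pull_pull, j_proj] at h1
      rw [← inv_inv n, hMc, map_inv, pull_cls, PicCurve.divCl, PicCurve.divCl] at h1
      refine (PicGrp.cls_eq_cls_iff (TMul.isInvertible_tensorMod hL hI)
        (TMul.isInvertible_tensorMod hJ (PicLoc.isInvertible_pullback f hM))).1 ?_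
      show PicGrp.cls L hL * PicGrp.cls _ hI = PicGrp.cls _ hJ * PicGrp.cls _ (PicLoc.isInvertible_pullback f hM)
      exact (inv_eq_mul_iff _ _ _ _).1 h1
    · rintro ⟨M, hM, ⟨e⟩⟩
      have h2 : PicGrp.cls L hL * PicGrp.cls _ hI = PicGrp.cls _ hJ * PicGrp.cls _ (PicLoc.isInvertible_pullback f hM) :=
        Subtype.ext (Quot.sound ⟨e⟩)
      have h3 : pull (j f) (pull (XTmap f x) (PicCurve.cH f 1 (Over.mk f) Δ)) =
          pull (j f) (cσ f σ hσ L hL * pull (XTproj f T) (PicGrp.cls M hM)⁻¹) := by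
        rw [pull_j_cH f Δ hΔ, map_mul, pull_j_cσ, pull_pull, j_proj, map_inv, pull_cls, PicCurve.divCl, PicCurve.divCl]
        exact (inv_eq_mul_iff _ _ _ _).2 h2
      have h4 := congrArg (pull (pullback.fst f T.hom)) h3
      have hid : ∀ a : PicLoc.PicSet (XT f T), pull (pullback.fst f T.hom) (pull (j f) a) = a := fun a => by
        rw [pull_pull]
        exact (congrArg (fun q : XT f T ⟶ XT f T => pull q a) (fst_j f)).trans (PicCurve.pull_id a)
      rw [hid, hid] at h4
      rw [h4, PicCurve.rigify_mul, PicCurve.rigify_base, mul_one]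
  refine ⟨x.left, ⟨Over.w x, (key x).1 hx⟩, ?_⟩
  rintro P ⟨hP, hPM⟩
  exact congrArg CommaMorphism.left (hxu (Over.homMk P hP : T ⟶ Over.mk f) ((key (Over.homMk P hP)).2 hPM))

end Groth.Agent.EllSect
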