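import Groth.Agent.EllSect.Group

/-!
Translations of a genus one family by a difference of sections.
-/

set_option autoImplicit false
set_option backward.isDefEq.respectTransparency false
set_option backward.isDefEq.respectTransparency.types false
set_option linter.style.haveILetI false
set_option linter.unusedSectionVars false
set_option maxHeartbeats 1000000

universe u

open CategoryTheory CategoryTheory.Limits AlgebraicGeometry TopologicalSpace Opposite MonoidalCategory CartesianMonoidalCategory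
open PicF
open scoped MonObj
open Groth.Agent.W7Cube (pull pull_pull pull_cls)
open Groth.Agent.PicCurve

attribute [local instance] Groth.Agent.W7Cube.law

noncomputable section

namespace Groth.Agent.EllSect

variable {E S : Scheme.{u}} (f : E ⟶ S) [IsProper f] [SmoothOfRelativeDimension 1 f] [GeometricallyConnected f]
  (hdim : ∀ s : S, topologicalKrullDim ↥(f.fiber s) = 1)
  (hO : ∀ z : S, PerfAux.betti f (Coh.structureModule E) z 0 = 1 ∧ PerfAux.betti f (Coh.structureModule E) z 1 = 1)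
  (σ : S ⟶ E) (hσ : σ ≫ f = 𝟙 S)

include hdim hO in
/-- The origin of the group law is the section. -/
theorem one_left (G : GrpObj (Over.mk f)) (hG : ∀ (T : Over S) (p q : T ⟶ Over.mk f),
      pull (XTmap f (lift p q ≫ G.mul)) (uCl f σ hσ) = pull (XTmap f p) (uCl f σ hσ) * pull (XTmap f q) (uCl f σ hσ))
    (T : Over S) : ((1 : T ⟶ Over.mk f) : T ⟶ Over.mk f).left = T.hom ≫ σ := by
  let x : T ⟶ Over.mk f := Over.homMk (T.hom ≫ σ) (by
    show (T.hom ≫ σ) ≫ f = T.hom
    rw [Category.assoc, hσ, Category.comp_id])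
  have hx : pull (XTmap f x) (uCl f σ hσ) = 1 := by
    rw [pull_uCl]
    show rigify f σ hσ T (ptCl f T (T.hom ≫ σ) _ * (sigCl f σ hσ T)⁻¹) = 1
    rw [sigCl, mul_inv_cancel, rigify_of_mem f σ hσ (map_one _)]
  have h1 : pull (XTmap f (1 : T ⟶ Over.mk f)) (uCl f σ hσ) = 1 := by
    have h := hG T 1 1
    rw [show lift (1 : T ⟶ Over.mk f) 1 ≫ G.mul = 1 * 1 from rfl, _root_.one_mul] at h
    exact left_eq_mul.1 h
  obtain ⟨y, -, hy⟩ := classifies_uCl f hdim hO σ hσ T 1 (map_one _) (fun t => degC_one f hdim T t)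
  rw [(hy _ h1).trans (hy x hx).symm]
  rfl

include hdim hO hσ in
/-- Two sections of a genus one family are exchanged by an automorphism, the identity wherever they agree. -/
theorem exists_translation (τ : S ⟶ E) (hτ : τ ≫ f = 𝟙 S) : ∃ e : E ≅ E, e.hom ≫ f = f ∧ σ ≫ e.hom = τ ∧
    ∀ {Y : Scheme.{u}} (i : Y ⟶ E), (i ≫ f) ≫ τ = (i ≫ f) ≫ σ → i ≫ e.hom = i := by
  obtain ⟨G, hG⟩ := exists_grpObj f hdim hO σ hσ
  letI : GrpObj (Over.mk f) := G
  have hone := one_left f hdim hO σ hσ G hG
  let P : 𝟙_ (Over S) ⟶ Over.mk f := Over.homMk τ hτ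
  let c : Over.mk f ⟶ Over.mk f := toUnit _ ≫ P
  have key : ∀ Q : 𝟙_ (Over S) ⟶ Over.mk f, (𝟙 (Over.mk f) * toUnit _ ≫ Q) ≫ (𝟙 (Over.mk f) * toUnit _ ≫ Q⁻¹) = 𝟙 _ :=
    fun Q => by
      rw [MonObj.comp_mul, Category.comp_id, ← Category.assoc, toUnit_unique (_ ≫ toUnit _) (toUnit _), _root_.mul_assoc,
        ← MonObj.comp_mul, mul_inv_cancel, MonObj.comp_one, _root_.mul_one]
  let e : Over.mk f ≅ Over.mk f :=
    { hom := 𝟙 _ * toUnit _ ≫ P
      inv := 𝟙 _ * toUnit _ ≫ P⁻¹
      hom_inv_id := key P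
      inv_hom_id := by simpa only [inv_inv] using key P⁻¹ }
  refine ⟨(Over.forget S).mapIso e, Over.w e.hom, ?_, fun {Y} i hi => ?_⟩
  · let s : 𝟙_ (Over S) ⟶ Over.mk f := Over.homMk σ hσ
    have hs : s = 1 := Over.OverMorphism.ext (((hone _).trans (Category.id_comp σ)).symm)
    have h : s ≫ e.hom = P := by
      show s ≫ (𝟙 _ * toUnit _ ≫ P) = P
      rw [MonObj.comp_mul, Category.comp_id, ← Category.assoc, toUnit_unique (_ ≫ toUnit _) (𝟙 _), Category.id_comp, hs,
        _root_.one_mul]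
    exact congrArg CommaMorphism.left h
  · let I : Over.mk (i ≫ f) ⟶ Over.mk f := Over.homMk i
    have h : toUnit (Over.mk (i ≫ f)) ≫ P = 1 := Over.OverMorphism.ext (by
      rw [Over.comp_left, hone]
      exact hi)
    have h2 : I ≫ e.hom = I := by
      show I ≫ (𝟙 _ * toUnit _ ≫ P) = I
      rw [MonObj.comp_mul, Category.comp_id, ← Category.assoc, toUnit_unique (_ ≫ toUnit _) (toUnit _), h, _root_.mul_one]
    exact congrArg CommaMorphism.left h2

end Groth.Agent.EllSect
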